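import Cfsg.Agent.Lib.WeightedSum.Regular
import Cfsg.Agent.Lib.BlockCover.Quotient
import Cfsg.Agent.Lib.CharCorr.CentralTriple
import Cfsg.Agent.Lib.Characters.Monomial
import Cfsg.Agent.Lib.PCore.PSolvable

/-!
# Vanishing degree-weighted sums over a central character of a `p'`-core
-/

set_option autoImplicit false
set_option linter.style.haveILetI false
set_option linter.unusedSectionVars false
open Cfsg CfsgLib.Characters CfsgLib.CharCorr CfsgLib.PCore
open scoped ComplexConjugate

namespace CfsgLib.WeightedSum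

universe u

variable {X : Type u} [Group X]

/-- The degree weighted sum of a set of irreducible characters. -/
noncomputable def fsum (U : Finset (IrrCharacter X)) (x : X) : ℂ :=
  ∑ χ ∈ U, (χ : X → ℂ) 1 * (χ : X → ℂ) x

theorem isClassFunction_fsum (U : Finset (IrrCharacter X)) : IsClassFunction X (fsum U) :=
  fun g h => Finset.sum_congr rfl fun χ _ => by rw [irr_isClassFunction χ g h]

theorem fsum_one_eq (U : Finset (IrrCharacter X)) :
    fsum U 1 = ((∑ χ ∈ U, charDegree (χ : X → ℂ) ^ 2 : ℕ) : ℂ) := by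
  push_cast
  exact Finset.sum_congr rfl fun χ _ => by rw [irr_one_eq_charDegree, sq]

theorem fsum_one_ne_zero {U : Finset (IrrCharacter X)} (h : U.Nonempty) : fsum U 1 ≠ 0 := by
  rw [fsum_one_eq, Nat.cast_ne_zero]
  exact (Finset.sum_pos (fun χ _ => pow_pos (charDegree_irr_pos χ) 2) h).ne'

theorem conj_fsum_one (U : Finset (IrrCharacter X)) : conj (fsum U 1) = fsum U 1 := by
  rw [fsum_one_eq, Complex.conj_natCast]

variable [Fintype X] {p : ℕ} [hp : Fact p.Prime]

/-- A regular element centralising `O_p` lies in a central `p'`-core. -/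
theorem mem_of_regular_commute (hsolv : IsPSolvable p X) (Z : Subgroup X)
    (hZc : Z ≤ Subgroup.center X) (hZp : ¬ p ∣ Nat.card Z) (hcore : pPrimeCore p X ≤ Z) {x : X}
    (hx : ¬ p ∣ orderOf x) (hc : ∀ v ∈ pCore p X, Commute v x) : x ∈ Z := by
  classical
  haveI hZn : Z.Normal := ⟨fun z hz g => by
    rwa [Subgroup.mem_center_iff.1 (hZc hz) g, mul_inv_cancel_right]⟩
  set q := QuotientGroup.mk' Z with hq
  set A := pCore p (X ⧸ Z) with hA
  set Q := A.comap q with hQ
  haveI : A.Normal := pCore_normal p _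
  haveI : Q.Normal := Subgroup.Normal.comap inferInstance q
  have hZQ : Z ≤ Q := fun z hz => by
    rw [hQ, Subgroup.mem_comap, show q z = 1 from (QuotientGroup.eq_one_iff z).2 hz]
    exact A.one_mem
  obtain ⟨n, hn⟩ := IsPGroup.iff_card.1 (pCore_isPGroup (p := p) (G := X ⧸ Z))
  set ZQ := Z.subgroupOf Q with hZQdef
  have hidx : ZQ.index = p ^ n := by
    rw [hZQdef, ← Subgroup.relIndex, ← hn]
    have h := Subgroup.relIndex_comap (⊥ : Subgroup (X ⧸ Z)) q Q
    rw [MonoidHom.comap_bot, hq, QuotientGroup.ker_mk'] at h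
    rw [h, ← hq, hQ, Subgroup.map_comap_eq_self_of_surjective (QuotientGroup.mk'_surjective Z),
      Subgroup.relIndex_bot_left]
  haveI : ZQ.Normal := Subgroup.Normal.subgroupOf hZn Q
  obtain ⟨K, hK⟩ := Subgroup.exists_right_complement'_of_coprime (N := ZQ) (by
    rw [hidx, Nat.card_congr (Subgroup.subgroupOfEquivOfLe hZQ).toEquiv]
    exact ((Nat.Prime.coprime_iff_not_dvd hp.out).2 hZp).symm.pow_right n)
  have hKn : K.Normal := by
    rw [← Subgroup.normalizer_eq_top_iff, ← top_le_iff, ← hK.sup_eq_top, sup_le_iff]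
    refine ⟨fun z hz => ?_, Subgroup.le_normalizer⟩
    rw [Subgroup.mem_normalizer_iff]
    intro k
    have hzk : z * k * z⁻¹ = k := by
      apply Subtype.ext
      show (z : X) * k * (z : X)⁻¹ = k
      have hzc : (k : X) * (z : X) = (z : X) * k := Subgroup.mem_center_iff.1 (hZc hz) (k : X)
      rw [← hzc, mul_inv_cancel_right]
    rw [hzk]
  have hKp : IsPGroup p K := IsPGroup.of_card (hK.symm.index_eq_card ▸ hidx)
  have hKP : K.map Q.subtype ≤ pCore p X :=
    ((Subgroup.map_mono (le_pCore hKn hKp)).trans (map_pCore_subtype_of_normal Q).le).trans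
      inf_le_right
  have hcomm : ∀ y ∈ Q, Commute y x := by
    intro y hy
    obtain ⟨⟨z, k⟩, hzk⟩ := (show Function.Bijective _ from hK).2 ⟨y, hy⟩
    have hzk' : ((z : Q) : X) * ((k : Q) : X) = y := congrArg Subtype.val hzk
    rw [← hzk']
    exact Commute.mul_left (Subgroup.mem_center_iff.1 (hZc z.2) x).symm
      (hc _ (hKP ⟨k, k.2, rfl⟩))
  have h0 : pPrimeCore p (X ⧸ Z) = ⊥ := by
    have hZeq : Z = pPrimeCore p X :=
      le_antisymm (le_pPrimeCore hZn (coprime_of_not_dvd_card hZp)) hcore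
    subst hZeq
    exact pPrimeCore_quotient_pPrimeCore
  have hmem : q x ∈ Subgroup.centralizer (A : Set (X ⧸ Z)) := by
    rw [Subgroup.mem_centralizer_iff]
    intro a ha
    obtain ⟨y, rfl⟩ := QuotientGroup.mk'_surjective Z a
    rw [← map_mul, ← map_mul, (hcomm y ha).eq]
  have h1 := centralizer_pCore_le (isPSolvable_quotient hsolv Z) h0 hmem
  have h2 : orderOf (q x) ∣ p ^ n := hn ▸ Subgroup.orderOf_dvd_natCard A h1
  obtain ⟨i, -, hi⟩ := (Nat.dvd_prime_pow hp.out).1 h2
  rcases Nat.eq_zero_or_pos i with h | h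
  · exact (QuotientGroup.eq_one_iff x).1 (show q x = 1 from
      orderOf_eq_one_iff.1 (by rw [hi, h, pow_zero]))
  · exact absurd ((dvd_pow_self p h.ne').trans (hi ▸ orderOf_map_dvd q x)) hx

/-- Two sets of characters over a linear character of a central `p'`-core which together make all
of them cannot both have vanishing degree-weighted sums. -/
theorem core_false (hsolv : IsPSolvable p X) (Z : Subgroup X) (hZc : Z ≤ Subgroup.center X)
    (hZp : ¬ p ∣ Nat.card Z) (hcore : pPrimeCore p X ≤ Z) (lam : Z →* ℂˣ)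
    (U V : Finset (IrrCharacter X))
    (hover : ∀ η : IrrCharacter X, (η ∈ U ∨ η ∈ V) ↔
      ∀ z : Z, (η : X → ℂ) z = (lam z : ℂ) * (η : X → ℂ) 1)
    (hd : Disjoint U V) (hU : ∀ x, p ∣ orderOf x → fsum U x = 0)
    (hV : ∀ x, p ∣ orderOf x → fsum V x = 0) (hUne : U.Nonempty) (hVne : V.Nonempty) : False := by
  classical
  set P := pCore p X with hPdef
  haveI : P.Normal := pCore_normal p _
  have hP : IsPGroup p P := pCore_isPGroup
  obtain ⟨π, hπc, hπi, hπr⟩ := exists_piChar (p := p) _ X P hP le_rfl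
  set PU := U.filter fun χ => P ≤ Chars17.irrKer χ with hPU
  set PV := V.filter fun χ => P ≤ Chars17.irrKer χ with hPV
  have hP0 : (Nat.card P : ℂ) ≠ 0 := by simp
  -- averaging over `P`
  have havg : ∀ (W : Finset (IrrCharacter X)) (x : X), ∑ u : P, fsum W ((u : X) * x) =
      (Nat.card P : ℂ) * fsum (W.filter fun χ => P ≤ Chars17.irrKer χ) x := by
    intro W x
    simp only [fsum]
    rw [Finset.sum_comm, Finset.mul_sum, Finset.sum_filter]
    refine Finset.sum_congr rfl fun χ _ => ?_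
    rw [← Finset.mul_sum, BlockCover.sum_coset_eq P χ x]
    split_ifs <;> ring
  have hreg : ∀ (W : Finset (IrrCharacter X)), (∀ x, p ∣ orderOf x → fsum W x = 0) →
      ∀ x, ¬ p ∣ orderOf x →
        fsum W x = (centCount P x : ℂ) * fsum (W.filter fun χ => P ≤ Chars17.irrKer χ) x := by
    intro W hW x hx
    have h := sum_coset_regular P hP hx (isClassFunction_fsum W) hW
    rw [havg] at h
    apply mul_left_cancel₀ hP0
    linear_combination -h
  have hpi : ∀ (W : Finset (IrrCharacter X)) (u : P) (x : X),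
      fsum (W.filter fun χ => P ≤ Chars17.irrKer χ) ((u : X) * x) =
        fsum (W.filter fun χ => P ≤ Chars17.irrKer χ) x := by
    intro W u x
    apply mul_left_cancel₀ hP0
    rw [← havg, ← havg]
    exact Fintype.sum_equiv (Equiv.mulRight u) _ _ fun v => by simp [mul_assoc]
  -- the scalar on `Z`
  have hZ1 : ∀ z : Z, ¬ p ∣ orderOf (z : X) := fun z h =>
    hZp (h.trans (Subgroup.orderOf_dvd_natCard Z z.2))
  have hsc : ∀ η : IrrCharacter X, (η ∈ U ∨ η ∈ V) → ∀ (z : Z) (g : X),
      (η : X → ℂ) ((z : X) * g) = (lam z : ℂ) * (η : X → ℂ) g := by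
    intro η hη z g
    rw [CentralDefect.apply_central_mul η (hZc z.2), (hover η).1 hη z,
      mul_div_cancel_right₀ _ (irr_one_ne_zero η)]
  have hπZ : ∀ (z : Z) (g : X), π ((z : X) * g) = π g := by
    intro z g
    have h1 : π (z : X) = π 1 := by
      rw [hπr _ (hZ1 z), hπr _ (by rw [orderOf_one]; exact hp.out.not_dvd_one),
        centCount_of_forall fun v _ => Subgroup.mem_center_iff.1 (hZc z.2) v,
        centCount_of_forall fun v _ => Commute.one_right v]
    obtain ⟨d, ρ, hρ⟩ := hπc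
    have hval : ∀ y, ρ.character y = (π y : ℂ) := fun y => congrFun hρ y
    have h2 : ρ (z : X) = LinearMap.id := (char_eq_degree_iff ρ _).1 (by
      rw [← Representation.char_one ρ, hval, hval, h1])
    have h3 : ρ.character ((z : X) * g) = ρ.character g := by
      show LinearMap.trace ℂ _ (ρ ((z : X) * g)) = LinearMap.trace ℂ _ (ρ g)
      rw [map_mul, h2]
      rfl
    rw [hval, hval] at h3
    exact_mod_cast h3
  -- orthogonality at the first power
  set b := fsum PV with hb
  have hdis : ∀ η ∈ U, ∀ η' ∈ V, η ≠ η' := fun η h η' h' e =>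
    Finset.disjoint_left.1 hd h (e ▸ h')
  have hUV : ∑ x : X, fsum U x * conj (fsum V x) = 0 := by
    simp only [fsum, map_sum, map_mul, Finset.sum_mul, Finset.mul_sum]
    rw [Finset.sum_comm]
    refine Finset.sum_eq_zero fun χ hχ => ?_
    rw [Finset.sum_comm]
    refine Finset.sum_eq_zero fun ψ hψ => ?_
    have h0 : ∑ x : X, (ψ : X → ℂ) x * conj ((χ : X → ℂ) x) = 0 := by
      have := sum_irr_mul_conj ψ χ 1
      simpa [hdis ψ hψ χ hχ] using this
    rw [Finset.sum_congr rfl (fun x _ => show _ = ((ψ : X → ℂ) 1 * conj ((χ : X → ℂ) 1)) *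
      ((ψ : X → ℂ) x * conj ((χ : X → ℂ) x)) by ring), ← Finset.mul_sum, h0, mul_zero]
  have hfirst : ∑ x : X, (π x : ℂ) * fsum PU x * conj (b x) = 0 := by
    apply mul_left_cancel₀ hP0
    rw [mul_zero, Finset.mul_sum]
    have e : ∀ x, (Nat.card P : ℂ) * ((π x : ℂ) * fsum PU x * conj (b x)) =
        ∑ u : P, fsum U ((u : X) * x) * ((π ((u : X) * x) : ℂ) * conj (b ((u : X) * x))) := by
      intro x
      simp only [hb, hpi V, hPV, hπi _ (SetLike.coe_mem _) x]
      rw [← Finset.sum_mul, havg, hPU]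
      ring
    rw [Finset.sum_congr rfl (fun x _ => e x), Finset.sum_comm]
    refine Finset.sum_eq_zero fun u _ => ?_
    refine (Fintype.sum_equiv (Equiv.mulLeft (u : X)) _
      (fun y => fsum U y * ((π y : ℂ) * conj (b y))) (fun x => rfl)).trans ?_
    rw [← hUV]
    refine Finset.sum_congr rfl fun y _ => ?_
    by_cases hy : p ∣ orderOf y
    · rw [hU y hy, zero_mul, zero_mul]
    · rw [hπr y hy, hreg V hV y hy, map_mul, Complex.conj_natCast]
  -- each pair is orthogonal
  have hmulc : ∀ η : IrrCharacter X, IsCharacter X fun x => (π x : ℂ) * (η : X → ℂ) x :=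
    fun η => isCharacter_mul hπc (irr_isCharacter η)
  have hone : ∀ η ∈ PU, ∀ η' ∈ PV,
      classInner (fun x => (π x : ℂ) * (η : X → ℂ) x) (η' : X → ℂ) = 0 := by
    choose m hm hsum using fun η => Clifford.exists_mult (hmulc η)
    have h : ((∑ η' ∈ PV, ∑ η ∈ PU,
        charDegree (η : X → ℂ) * charDegree (η' : X → ℂ) * m η η' : ℕ) : ℂ) = 0 := by
      have h1 : (Nat.card X : ℂ)⁻¹ * ∑ x : X, (π x : ℂ) * fsum PU x * conj (b x) = 0 := by
        rw [hfirst, mul_zero]
      rw [← h1]
      push_cast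
      simp only [hb, fsum, map_sum, map_mul, Finset.mul_sum, Finset.sum_mul]
      rw [Finset.sum_comm (γ := X)]
      refine Finset.sum_congr rfl fun η' _ => ?_
      rw [Finset.sum_comm (γ := X)]
      refine Finset.sum_congr rfl fun η _ => ?_
      rw [← hm η η', classInner, Finset.mul_sum, Finset.mul_sum]
      refine Finset.sum_congr rfl fun x _ => ?_
      rw [← irr_one_eq_charDegree, ← irr_one_eq_charDegree, Chars17.conj_irr_one]
      ring
    intro η hη η' hη'
    have h2 := Finset.sum_eq_zero_iff.1 (Finset.sum_eq_zero_iff.1 (Nat.cast_eq_zero.1 h) η' hη') η hη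
    rw [hm η η', (mul_eq_zero.1 h2).resolve_left (mul_ne_zero (charDegree_irr_pos η).ne'
      (charDegree_irr_pos η').ne'), Nat.cast_zero]
  have hclosed : ∀ η ∈ PU, ∀ ζ : IrrCharacter X,
      classInner (fun x => (π x : ℂ) * (η : X → ℂ) x) (ζ : X → ℂ) ≠ 0 → ζ ∈ PU := by
    intro η hη ζ hne
    obtain ⟨hηU, hηP⟩ := Finset.mem_filter.1 hη
    have hζP : P ≤ Chars17.irrKer ζ := fun u hu => Chars17.mem_irrKer.2 (by
      refine CfsgLib.CharMonomial.constituent_eq_degree (hmulc η) hne ?_
      show (π u : ℂ) * (η : X → ℂ) u = (π 1 : ℂ) * (η : X → ℂ) 1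
      rw [Chars17.mem_irrKer.1 (hηP hu)]
      congr 2
      simpa using hπi u hu 1)
    have hζo : ∀ z : Z, (ζ : X → ℂ) z = (lam z : ℂ) * (ζ : X → ℂ) 1 := by
      intro z
      set μ : ℂ := (ζ : X → ℂ) (z : X) / (ζ : X → ℂ) 1 with hμ
      have hμg : ∀ g, (ζ : X → ℂ) ((z : X) * g) = μ * (ζ : X → ℂ) g := fun g =>
        CentralDefect.apply_central_mul ζ (hZc z.2) g
      have h1 : classInner (fun x => (π x : ℂ) * (η : X → ℂ) x) (ζ : X → ℂ) =
          (lam z : ℂ) * conj μ * classInner (fun x => (π x : ℂ) * (η : X → ℂ) x) (ζ : X → ℂ) := by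
        conv_lhs => rw [classInner, ← Fintype.sum_equiv (Equiv.mulLeft (z : X))
          (fun g => (lam z : ℂ) * conj μ * ((π g : ℂ) * (η : X → ℂ) g * conj ((ζ : X → ℂ) g))) _
          (fun g => by
            show _ = (π ((z : X) * g) : ℂ) * (η : X → ℂ) ((z : X) * g) *
              conj ((ζ : X → ℂ) ((z : X) * g))
            rw [hπZ, hsc η (Or.inl hηU), hμg, map_mul]
            ring), ← Finset.mul_sum]
        rw [classInner]
        ring
      have h2 : (lam z : ℂ) * conj μ = 1 := mul_right_cancel₀ hne (by rw [one_mul, ← h1])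
      have h3 : conj μ * μ = 1 := by
        have e1 := hμg (z : X)⁻¹
        rw [mul_inv_cancel, irr_apply_inv] at e1
        have e2 : conj μ = conj ((ζ : X → ℂ) (z : X)) / (ζ : X → ℂ) 1 := by
          rw [hμ, map_div₀, Chars17.conj_irr_one]
        rw [e2, div_mul_eq_mul_div, div_eq_one_iff_eq (irr_one_ne_zero ζ), mul_comm]
        exact e1.symm
      have h4 : μ = (lam z : ℂ) := by
        calc μ = (lam z : ℂ) * conj μ * μ := by rw [h2, one_mul]
          _ = _ := by rw [mul_assoc, h3, mul_one]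
      rw [← h4, hμ, div_mul_cancel₀ _ (irr_one_ne_zero ζ)]
    rcases (hover ζ).2 hζo with h | h
    · exact Finset.mem_filter.2 ⟨h, hζP⟩
    · exact absurd (hone η hη ζ (Finset.mem_filter.2 ⟨h, hζP⟩)) hne
  have hall : ∀ (k : ℕ), ∀ η ∈ PU, ∀ η' ∈ PV,
      classInner (fun x => (π x : ℂ) ^ k * (η : X → ℂ) x) (η' : X → ℂ) = 0 := by
    intro k
    induction k with
    | zero =>
      intro η hη η' hη'
      simp only [pow_zero, one_mul]
      rw [classInner_irr, if_neg (hdis η (Finset.mem_filter.1 hη).1 η' (Finset.mem_filter.1 hη').1)]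
    | succ k ih =>
      intro η hη η' hη'
      obtain ⟨m, hm, hsum⟩ := Clifford.exists_mult (hmulc η)
      have e : (fun x => (π x : ℂ) ^ (k + 1) * (η : X → ℂ) x) =
          ∑ ζ : IrrCharacter X, (m ζ : ℂ) • fun x => (π x : ℂ) ^ k * (ζ : X → ℂ) x := by
        funext x
        have := congrFun hsum x
        simp only [Finset.sum_apply, Pi.smul_apply, smul_eq_mul] at this ⊢
        rw [pow_succ, mul_assoc, this, Finset.mul_sum]
        exact Finset.sum_congr rfl fun ζ _ => by ring
      rw [e, classInner_sum_left]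
      refine Finset.sum_eq_zero fun ζ _ => ?_
      rw [classInner_smul_left]
      rcases eq_or_ne (m ζ) 0 with h0 | h0
      · rw [h0, Nat.cast_zero, zero_mul]
      · rw [ih ζ (hclosed η hη ζ (by rw [hm ζ]; exact_mod_cast h0)) η' hη', mul_zero]
  -- interpolation
  have hpow : ∀ k : ℕ, ∑ x : X, (π x : ℂ) ^ k * (fsum PU x * conj (b x)) = 0 := by
    intro k
    simp only [hb, fsum, map_sum, map_mul, Finset.mul_sum, Finset.sum_mul]
    rw [Finset.sum_comm]
    refine Finset.sum_eq_zero fun i hi => ?_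
    rw [Finset.sum_comm]
    refine Finset.sum_eq_zero fun j hj => ?_
    have h := hall k j hj i hi
    rw [classInner, mul_eq_zero] at h
    replace h := h.resolve_left (inv_ne_zero (by simp))
    rw [Finset.sum_congr rfl (fun x _ => show _ = ((j : X → ℂ) 1 * conj ((i : X → ℂ) 1)) *
      ((π x : ℂ) ^ k * (j : X → ℂ) x * conj ((i : X → ℂ) x)) by ring), ← Finset.mul_sum, h,
      mul_zero]
  set vals := (Finset.univ.image fun x : X => (π x : ℂ)).erase (π 1 : ℂ) with hvals
  set Φ : Polynomial ℂ := ∏ v ∈ vals, (Polynomial.X - Polynomial.C v) with hΦ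
  have hpoly : ∑ x : X, Φ.eval (π x : ℂ) * (fsum PU x * conj (b x)) = 0 := by
    simp only [Polynomial.eval_eq_sum_range, Finset.sum_mul, mul_assoc]
    rw [Finset.sum_comm]
    exact Finset.sum_eq_zero fun k _ => by rw [← Finset.mul_sum, hpow, mul_zero]
  have hq1 : Φ.eval (π 1 : ℂ) ≠ 0 := by
    rw [hΦ, Polynomial.eval_prod, Finset.prod_ne_zero_iff]
    intro v hv
    rw [Polynomial.eval_sub, Polynomial.eval_X, Polynomial.eval_C, sub_ne_zero]
    exact (Finset.ne_of_mem_erase hv).symm
  have hterm : ∀ x : X, Φ.eval (π x : ℂ) * (fsum PU x * conj (b x)) = 0 ∨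
      Φ.eval (π x : ℂ) * (fsum PU x * conj (b x)) =
        Φ.eval (π 1 : ℂ) * (fsum PU 1 * fsum PV 1) := by
    intro x
    by_cases hπ : π x = π 1
    swap
    · left
      rw [hΦ, Polynomial.eval_prod, Finset.prod_eq_zero (i := (π x : ℂ))
        (Finset.mem_erase.2 ⟨by exact_mod_cast hπ, Finset.mem_image.2 ⟨x, Finset.mem_univ _, rfl⟩⟩)
        (by simp), zero_mul]
    by_cases hex : ∃ u : P, ¬ p ∣ orderOf ((u : X) * x)
    swap
    · left
      push Not at hex
      have h1 := havg U x
      rw [Finset.sum_eq_zero (fun u _ => hU _ (hex u))] at h1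
      rw [hPU, (mul_eq_zero.1 h1.symm).resolve_left hP0, zero_mul, mul_zero]
    right
    obtain ⟨u, hu⟩ := hex
    have hy : π ((u : X) * x) = π x := hπi _ u.2 x
    have hz : (u : X) * x ∈ Z := by
      refine mem_of_regular_commute hsolv Z hZc hZp hcore hu fun v hv => ?_
      refine commute_of_centCount_eq ?_ ⟨v, hv⟩
      rw [← hπr _ hu, hy, hπ, hπr 1 (by rw [orderOf_one]; exact hp.out.not_dvd_one),
        centCount_of_forall fun v _ => Commute.one_right v]
    have hval : ∀ W : Finset (IrrCharacter X), (∀ χ ∈ W, χ ∈ U ∨ χ ∈ V) →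
        fsum (W.filter fun χ => P ≤ Chars17.irrKer χ) x =
          (lam ⟨_, hz⟩ : ℂ) * fsum (W.filter fun χ => P ≤ Chars17.irrKer χ) 1 := by
      intro W hW
      rw [← hpi W u x, fsum, fsum, Finset.mul_sum]
      refine Finset.sum_congr rfl fun χ hχ => ?_
      rw [(hover χ).1 (hW χ (Finset.mem_filter.1 hχ).1) ⟨_, hz⟩]
      ring
    have hn : (lam ⟨_, hz⟩ : ℂ) * conj (lam ⟨_, hz⟩ : ℂ) = 1 := by
      rw [Complex.mul_conj', Complex.norm_eq_one_of_pow_eq_one (n := Nat.card Z)
        (by rw [← Units.val_pow_eq_pow_val, ← map_pow, pow_card_eq_one', map_one, Units.val_one])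
        Nat.card_pos.ne']
      simp
    rw [hπ, hb, hPU, hPV, hval U (fun _ => Or.inl), hval V (fun _ => Or.inr), map_mul,
      conj_fsum_one]
    linear_combination (Φ.eval (π 1 : ℂ) * (fsum (U.filter fun χ => P ≤ Chars17.irrKer χ) 1 *
      fsum (V.filter fun χ => P ≤ Chars17.irrKer χ) 1)) * hn
  have hone_ne : ∀ W : Finset (IrrCharacter X), (∀ x, p ∣ orderOf x → fsum W x = 0) → W.Nonempty →
      fsum (W.filter fun χ => P ≤ Chars17.irrKer χ) 1 ≠ 0 := by
    intro W hW hne h0
    apply fsum_one_ne_zero hne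
    rw [hreg W hW 1 (by rw [orderOf_one]; exact hp.out.not_dvd_one), h0, mul_zero]
  have hne : Φ.eval (π 1 : ℂ) * (fsum PU 1 * fsum PV 1) ≠ 0 :=
    mul_ne_zero hq1 (mul_ne_zero (hone_ne U hU hUne) (hone_ne V hV hVne))
  rw [← Finset.sum_filter_ne_zero, Finset.sum_congr rfl (fun x hx =>
    (hterm x).resolve_left (Finset.mem_filter.1 hx).2), Finset.sum_const, nsmul_eq_mul] at hpoly
  have hcard := (mul_eq_zero.1 hpoly).resolve_right hne
  rw [Nat.cast_eq_zero, Finset.card_eq_zero, Finset.filter_eq_empty_iff] at hcard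
  refine hne ?_
  have h1 := not_not.1 (hcard (Finset.mem_univ (1 : X)))
  rwa [hb, conj_fsum_one] at h1

end CfsgLib.WeightedSum
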