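import Cfsg.Agent.Lib.BlockCover.FongReynolds
import Cfsg.Agent.Lib.Blocks.NormalPPrime
import Cfsg.Agent.Lib.Characters.NormalRes
import Cfsg.Agent.Lib.WeightedSum.Core

/-!
# Vanishing weighted sums over a character of a normal `p'`-subgroup; descent to the inertia group
-/

set_option autoImplicit false
set_option linter.style.haveILetI false
set_option linter.unusedSectionVars false
open Cfsg CfsgLib.Characters CfsgLib.CharCorr
open scoped ComplexConjugate

namespace CfsgLib.WeightedSum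

universe u

theorem singular_map {A B : Type*} [Group A] [Group B] [Finite A] {p : ℕ} (hp : p.Prime)
    (f : A →* B) (hker : ¬ p ∣ Nat.card f.ker) {a : A} (ha : p ∣ orderOf a) :
    p ∣ orderOf (f a) := by
  have h1 : a ^ orderOf (f a) ∈ f.ker := by rw [MonoidHom.mem_ker, map_pow, pow_orderOf_eq_one]
  have h2 : (a ^ orderOf (f a)) ^ Nat.card f.ker = 1 :=
    congrArg Subtype.val (pow_card_eq_one' (x := (⟨_, h1⟩ : f.ker)))
  rw [← pow_mul] at h2
  exact (hp.dvd_mul.1 (ha.trans (orderOf_dvd_of_pow_eq_one h2))).resolve_right hker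

variable {G : Type u} [Group G] [Fintype G]

/-- `χ` lies over `θ`. -/
def Over (N : Subgroup G) [Fintype N] (θ : IrrCharacter N) (χ : IrrCharacter G) : Prop :=
  classInner (fun n : N => (χ : G → ℂ) n) (θ : N → ℂ) ≠ 0

variable {p : ℕ} (N : Subgroup G) [hN : N.Normal] [Fintype N]

/-- A combination of irreducible characters vanishing on the singular elements has a part over
each character of a normal `p'`-subgroup vanishing there as well. -/
theorem proj_over (hp : p.Prime) (hNp : ¬ p ∣ Nat.card N) (θ : IrrCharacter N)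
    (c : IrrCharacter G → ℂ)
    (h : ∀ x, p ∣ orderOf x → ∑ χ : IrrCharacter G, c χ * (χ : G → ℂ) x = 0)
    [DecidablePred (Over N θ)] {x : G} (hx : p ∣ orderOf x) :
    ∑ χ ∈ Finset.univ.filter (Over N θ), c χ * (χ : G → ℂ) x = 0 := by
  classical
  let φ : G → ℂ := fun y => conj (indFun N (θ : N → ℂ) y)
  have hφ : IsClassFunction G φ :=
    isClassFunction_conj (Induction.isClassFunction_indFun N (θ : N → ℂ))
  set m : IrrCharacter G → ℂ := fun χ => classInner (fun n : N => (χ : G → ℂ) n) (θ : N → ℂ)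
  have hsum : ∀ χ : IrrCharacter G, ∑ y : G, φ y * (χ : G → ℂ) y = (Nat.card G : ℂ) * m χ := by
    intro χ
    show _ = (Nat.card G : ℂ) * classInner (fun n : N => (χ : G → ℂ) n) (θ : N → ℂ)
    rw [← Induction.classInner_indFun_right N (θ : N → ℂ) (irr_isClassFunction χ), classInner,
      mul_inv_cancel_left₀ (by simp)]
    exact Finset.sum_congr rfl fun y _ => mul_comm _ _
  have h1 : ∑ y : G, φ y * ∑ χ : IrrCharacter G, c χ * (χ : G → ℂ) (y * x) = 0 := by
    refine Finset.sum_eq_zero fun y _ => ?_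
    by_cases hy : y ∈ N
    · rw [h, mul_zero]
      have hq := singular_map hp (QuotientGroup.mk' N) (by rw [QuotientGroup.ker_mk']; exact hNp) hx
      refine hq.trans ?_
      rw [show QuotientGroup.mk' N x = QuotientGroup.mk' N (y * x) by
        rw [map_mul, show QuotientGroup.mk' N y = 1 from (QuotientGroup.eq_one_iff y).2 hy, one_mul]]
      exact orderOf_map_dvd _ _
    · simp only [φ, Induction.indFun_normal_eq_zero N hy, map_zero, zero_mul]
  simp only [Finset.mul_sum] at h1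
  rw [Finset.sum_comm] at h1
  have hst : (stabCount N θ : ℂ) ≠ 0 := Nat.cast_ne_zero.2 (stabCount_pos N θ).ne'
  rw [Finset.sum_congr rfl (fun χ _ => show _ =
    (if Over N θ χ then (stabCount N θ : ℂ) / (θ : N → ℂ) 1 else 0) * (c χ * (χ : G → ℂ) x) by
    rw [Finset.sum_congr rfl (fun y _ => show φ y * (c χ * (χ : G → ℂ) (y * x)) =
      c χ * (φ y * (χ : G → ℂ) (y * x)) by ring), ← Finset.mul_sum, sum_classFn_mul_irr χ hφ, hsum]
    split_ifs with ho
    · have e := mult_mul_eq N χ θ ho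
      have e1 := irr_one_ne_zero χ
      have e2 := irr_one_ne_zero θ
      field_simp
      simp only [m]
      linear_combination (c χ * (χ : G → ℂ) x) * e
    · rw [show m χ = 0 from not_not.1 ho]
      simp)] at h1
  simp only [ite_mul, zero_mul, ← Finset.sum_filter, ← Finset.mul_sum] at h1
  exact (mul_eq_zero.1 h1).resolve_left (div_ne_zero hst (irr_one_ne_zero θ))

theorem fsum_over_eq_zero (hp : p.Prime) (hNp : ¬ p ∣ Nat.card N) (θ : IrrCharacter N)
    (U : Finset (IrrCharacter G)) (hU : ∀ x, p ∣ orderOf x → fsum U x = 0)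
    [DecidablePred (Over N θ)] {x : G} (hx : p ∣ orderOf x) :
    fsum (U.filter (Over N θ)) x = 0 := by
  classical
  have hc : ∀ y : G, ∑ χ : IrrCharacter G,
      (if χ ∈ U then (χ : G → ℂ) 1 else 0) * (χ : G → ℂ) y = fsum U y := by
    intro y
    simp [fsum, ite_mul, Finset.sum_ite_mem]
  have h := proj_over N hp hNp θ (fun χ => if χ ∈ U then (χ : G → ℂ) 1 else 0)
    (fun y hy => (hc y).trans (hU y hy)) hx
  rw [fsum, ← h]
  simp only [ite_mul, zero_mul, ← Finset.sum_filter]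
  refine Finset.sum_congr ?_ fun _ _ => rfl
  ext χ
  simp [and_comm]

theorem fsum_univ_eq_zero {x : G} (hp : p.Prime) (hx : p ∣ orderOf x) :
    fsum (Finset.univ : Finset (IrrCharacter G)) x = 0 := by
  classical
  rw [fsum, sum_degree_mul_irr, if_neg]
  rintro rfl
  exact hp.not_dvd_one (orderOf_one (G := G) ▸ hx)

/-- On a group of order prime to `p` each irreducible character is a block. -/
theorem eq_of_sameBlock {H : Type u} [Group H] [Fintype H] {M : Ideal AlgInt}
    (hM : IsPModular p M) (hH : ¬ p ∣ Nat.card H) {θ η : IrrCharacter H}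
    (h : SameBlock M (θ : H → ℂ) (η : H → ℂ)) : η = θ := by
  classical
  haveI : Fintype (⊤ : Subgroup H) := Fintype.ofFinite _
  let θ' : IrrCharacter (⊤ : Subgroup H) :=
    ⟨(θ : H → ℂ) ∘ Subgroup.topEquiv, isIrrCharacter_comp_equiv θ.2 Subgroup.topEquiv⟩
  have key : ∀ χ : IrrCharacter H, classInner (fun n : (⊤ : Subgroup H) => (χ : H → ℂ) n)
      (θ' : (⊤ : Subgroup H) → ℂ) = classInner (χ : H → ℂ) (θ : H → ℂ) := fun χ =>
    classInner_comp_equiv (Subgroup.topEquiv : (⊤ : Subgroup H) ≃* H) _ _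
  have h1 := Blocks.constituent_of_sameBlock hM (N := ⊤) (by rwa [Subgroup.card_top]) h θ' (by
    rw [key, classInner_irr, if_pos rfl]; exact one_ne_zero)
  rw [key, classInner_irr] at h1
  by_contra hne
  exact h1 (if_neg hne)

theorem isPBlock_singleton {M : Ideal AlgInt} {H : Type u} [Group H] [Fintype H]
    (hM : IsPModular p M) (hH : ¬ p ∣ Nat.card H) (θ : IrrCharacter H) :
    IsPBlock M ({θ} : Set (IrrCharacter H)) :=
  ⟨θ, Set.ext fun η => ⟨fun h => by rw [Set.mem_singleton_iff.1 h]; exact Blocks.mem_blockOf_self hM θ,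
    fun h => Set.mem_singleton_iff.2 (eq_of_sameBlock hM hH h)⟩⟩

variable {M : Ideal AlgInt} (T : Subgroup G) [Fintype T]

/-- The vanishing descends to the inertia subgroup. -/
theorem descend (hM : IsPModular p M) (hNp : ¬ p ∣ Nat.card N) (θ : IrrCharacter N) (hNT : N ≤ T)
    (hT : ∀ g : G, g ∈ T ↔ ∀ θ' ∈ ({θ} : Set (IrrCharacter N)),
      conjIrr N g θ' ∈ ({θ} : Set (IrrCharacter N)))
    (W : Finset (IrrCharacter G)) (hW : ∀ x, p ∣ orderOf x → fsum W x = 0)
    (UT : Finset (IrrCharacter T))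
    (hUT : ∀ ψ, ψ ∈ UT ↔ classInner (fun n : N => (ψ : T → ℂ) ⟨(n : G), hNT n.2⟩) (θ : N → ℂ) ≠ 0
      ∧ ∃ χ ∈ W, (χ : G → ℂ) = indFun T (ψ : T → ℂ))
    {t : T} (ht : p ∣ orderOf t) : fsum UT t = 0 := by
  classical
  set N' := N.subgroupOf T with hN'
  haveI : N'.Normal := Subgroup.Normal.subgroupOf hN T
  haveI : Fintype N' := Fintype.ofFinite _
  let e : N' ≃* N := Subgroup.subgroupOfEquivOfLe hNT
  let θ' : IrrCharacter N' := ⟨(θ : N → ℂ) ∘ e, isIrrCharacter_comp_equiv θ.2 e⟩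
  have hover : ∀ ψ : IrrCharacter T, Over N' θ' ψ ↔
      classInner (fun n : N => (ψ : T → ℂ) ⟨(n : G), hNT n.2⟩) (θ : N → ℂ) ≠ 0 := by
    intro ψ
    have h := classInner_comp_equiv e (fun n : N => (ψ : T → ℂ) ⟨(n : G), hNT n.2⟩) (θ : N → ℂ)
    exact not_congr (by rw [← h]; rfl)
  have hN'p : ¬ p ∣ Nat.card N' := by rwa [Nat.card_congr e.toEquiv]
  choose k hk hsum using fun χ : IrrCharacter G =>
    Clifford.exists_mult (Clifford.isCharacter_subtype (irr_isCharacter χ) T)
  let c : IrrCharacter T → ℂ := fun ψ => ∑ χ ∈ W, (χ : G → ℂ) 1 * (k χ ψ : ℂ)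
  have hc : ∀ s : T, p ∣ orderOf s → ∑ ψ : IrrCharacter T, c ψ * (ψ : T → ℂ) s = 0 := by
    intro s hs
    rw [← hW (s : G) (by rwa [Subgroup.orderOf_coe])]
    simp only [c, fsum, Finset.sum_mul]
    rw [Finset.sum_comm]
    refine Finset.sum_congr rfl fun χ _ => ?_
    have h1 := congrFun (hsum χ) s
    simp only [Finset.sum_apply, Pi.smul_apply, smul_eq_mul] at h1
    rw [h1, Finset.mul_sum]
    exact Finset.sum_congr rfl fun ψ _ => by ring
  have h := proj_over N' hM.1 hN'p θ' c hc ht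
  have hval : ∀ ψ ∈ Finset.univ.filter (Over N' θ'), c ψ * (ψ : T → ℂ) t =
      (T.index : ℂ) * (if ψ ∈ UT then (ψ : T → ℂ) 1 * (ψ : T → ℂ) t else 0) := by
    intro ψ hψ
    have ho := (hover ψ).1 (Finset.mem_filter.1 hψ).2
    obtain ⟨χ₀, hχ₀, -⟩ := BlockCover.exists_indFun_eq N {θ} T hT hNT hM
      (isPBlock_singleton hM hNp θ) ⟨θ, rfl, ho⟩
    have hkd : ∀ χ : IrrCharacter G, (k χ ψ : ℂ) = if χ = χ₀ then 1 else 0 := by
      intro χ
      rw [← hk χ ψ, ← Induction.classInner_indFun_right T (ψ : T → ℂ) (irr_isClassFunction χ), ← hχ₀,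
        classInner_irr]
    simp only [c, hkd, mul_ite, mul_one, mul_zero, Finset.sum_ite_eq']
    have hiff : χ₀ ∈ W ↔ ψ ∈ UT := by
      rw [hUT]
      exact ⟨fun h => ⟨ho, χ₀, h, hχ₀⟩, fun ⟨_, χ, hχ, he⟩ => by
        rwa [show χ₀ = χ from Subtype.ext (hχ₀.trans he.symm)]⟩
    by_cases hw : χ₀ ∈ W
    · rw [if_pos hw, if_pos (hiff.1 hw), hχ₀, Induction.indFun_one_apply]; ring
    · rw [if_neg hw, if_neg fun h => hw (hiff.2 h)]; ring
  rw [Finset.sum_congr rfl hval, ← Finset.mul_sum] at h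
  have h2 := (mul_eq_zero.1 h).resolve_left (Nat.cast_ne_zero.2 Subgroup.index_ne_zero_of_finite)
  rw [← Finset.sum_filter] at h2
  rw [fsum, ← h2]
  refine Finset.sum_congr ?_ fun _ _ => rfl
  ext ψ
  simp only [Finset.mem_filter, Finset.mem_univ, true_and]
  exact ⟨fun hm => ⟨(hover ψ).2 ((hUT ψ).1 hm).1, hm⟩, fun h => h.2⟩

end CfsgLib.WeightedSum
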