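import Cfsg.Agent.Lib.OddChar.CoprimeCoset
import Cfsg.Agent.Lib.Characters.PermChar
import Cfsg.Agent.Lib.Characters.Basic
import Cfsg.Agent.Lib.Characters.Clifford

/-!
# Regular elements in the cosets of a normal `p`-subgroup and the centraliser order character
-/

set_option autoImplicit false
set_option linter.style.haveILetI false
set_option linter.unusedSectionVars false
open Cfsg CfsgLib.Characters

namespace CfsgLib.WeightedSum

universe u

/-- The number of elements of `P` commuting with `x`. -/
noncomputable def centCount {X : Type u} [Group X] (P : Subgroup X) (x : X) : ℕ :=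
  Nat.card {v : P // Commute (v : X) x}

variable {X : Type u} [Group X] [Finite X] {p : ℕ} [hp : Fact p.Prime]

theorem coprime_card {P : Subgroup X} (hP : IsPGroup p P) {x : X} (hx : ¬ p ∣ orderOf x) :
    Nat.Coprime (orderOf x) (Nat.card P) := by
  obtain ⟨n, hn⟩ := IsPGroup.iff_card.1 hP
  rw [hn]
  exact ((Nat.Prime.coprime_iff_not_dvd hp.out).2 hx).symm.pow_right n

/-- Two regular elements of one coset of a normal `p`-subgroup are conjugate under it. -/
theorem exists_conj_of_regular (P : Subgroup X) [P.Normal] (hP : IsPGroup p P) {x y : X}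
    (hx : ¬ p ∣ orderOf x) (hy : ¬ p ∣ orderOf y) (h : y * x⁻¹ ∈ P) :
    ∃ k ∈ P, y = k * x * k⁻¹ := by
  obtain ⟨k, hk, c, hc, hcx, rfl⟩ :=
    CfsgLib.OddChar.coset_conj_centralizer P x (coprime_card hP hx) h
  refine ⟨k, hk, ?_⟩
  have h1 : orderOf (k * (c * x) * k⁻¹) = orderOf (c * x) := (MulAut.conj k).orderOf_eq (c * x)
  have hcop : Nat.Coprime (orderOf c) (orderOf x) :=
    ((coprime_card hP hx).coprime_dvd_right (Subgroup.orderOf_dvd_natCard _ hc)).symm
  have hc1 : c = 1 := by
    obtain ⟨n, hn⟩ := IsPGroup.iff_card.1 hP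
    obtain ⟨i, -, hi⟩ := (Nat.dvd_prime_pow hp.out).1 (hn ▸ Subgroup.orderOf_dvd_natCard _ hc)
    rcases Nat.eq_zero_or_pos i with h0 | h0
    · exact orderOf_eq_one_iff.1 (by rw [hi, h0, pow_zero])
    · refine absurd ?_ hy
      rw [h1, hcx.orderOf_mul_eq_mul_orderOf_of_coprime hcop, hi]
      exact Dvd.dvd.mul_right (dvd_pow_self p h0.ne') _
  rw [hc1, one_mul]

theorem orderOf_conj (k x : X) : orderOf (k * x * k⁻¹) = orderOf x := (MulAut.conj k).orderOf_eq x

/-- The sum of a class function vanishing off the regular elements over a coset of `P`. -/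
theorem sum_coset_regular (P : Subgroup X) [P.Normal] [Fintype P] (hP : IsPGroup p P) {x : X}
    (hx : ¬ p ∣ orderOf x) {f : X → ℂ} (hf : IsClassFunction X f)
    (hv : ∀ y, p ∣ orderOf y → f y = 0) :
    (centCount P x : ℂ) * ∑ u : P, f ((u : X) * x) = (Nat.card P : ℂ) * f x := by
  classical
  let K : P → P := fun k => ⟨(k : X) * (x * (k : X)⁻¹ * x⁻¹),
    P.mul_mem k.2 (Subgroup.Normal.conj_mem inferInstance _ (P.inv_mem k.2) x)⟩
  have hK : ∀ k, ((K k : P) : X) * x = (k : X) * x * (k : X)⁻¹ := fun k => by
    show (k : X) * (x * (k : X)⁻¹ * x⁻¹) * x = _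
    group
  have hfib : ∀ k : P, (Finset.univ.filter fun j => K j = K k).card = centCount P x := by
    intro k
    rw [centCount, Nat.card_eq_fintype_card, Fintype.card_subtype]
    refine Finset.card_bij (fun j _ => k⁻¹ * j) (fun j hj => ?_) (fun a _ b _ h => ?_) fun v hv => ?_
    · simp only [Finset.mem_filter, Finset.mem_univ, true_and] at hj ⊢
      have h1 : (j : X) * x * (j : X)⁻¹ = (k : X) * x * (k : X)⁻¹ := by rw [← hK, ← hK, hj]
      show ((k : X)⁻¹ * j) * x = x * ((k : X)⁻¹ * j)
      calc (k : X)⁻¹ * j * x = (k : X)⁻¹ * ((j : X) * x * (j : X)⁻¹) * j := by group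
        _ = _ := by rw [h1]; group
    · exact mul_left_cancel h
    · simp only [Finset.mem_filter, Finset.mem_univ, true_and] at hv
      refine ⟨k * v, ?_, inv_mul_cancel_left k v⟩
      simp only [Finset.mem_filter, Finset.mem_univ, true_and]
      apply Subtype.ext
      apply mul_right_cancel (b := x)
      rw [hK, hK]
      simp only [Subgroup.coe_mul, mul_inv_rev]
      calc (k : X) * v * x * ((v : X)⁻¹ * (k : X)⁻¹) = (k : X) * ((v : X) * x) * (v : X)⁻¹ * (k : X)⁻¹ := by
            group
        _ = _ := by rw [hv.eq]; group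
  have h1 : (Nat.card P : ℂ) * f x = ∑ k : P, f (((K k : P) : X) * x) := by
    simp only [hK, hf x]
    rw [Finset.sum_const, Finset.card_univ, nsmul_eq_mul, ← Nat.card_eq_fintype_card]
  rw [h1, Finset.mul_sum]
  conv_rhs => rw [← Finset.sum_fiberwise_of_maps_to (g := K) (fun k _ => Finset.mem_univ (K k))]
  refine Finset.sum_congr rfl fun u _ => ?_
  rw [Finset.sum_congr rfl (fun k hk => show f (((K k : P) : X) * x) = f ((u : X) * x) by
    rw [(Finset.mem_filter.1 hk).2]), Finset.sum_const, nsmul_eq_mul]
  by_cases hu : p ∣ orderOf ((u : X) * x)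
  · rw [hv _ hu, mul_zero, mul_zero]
  · obtain ⟨k, hk, hk'⟩ := exists_conj_of_regular P hP hx hu
      (by rw [mul_inv_cancel_right]; exact u.2)
    have hku : K ⟨k, hk⟩ = u := Subtype.ext (mul_right_cancel (b := x) (by rw [hK]; exact hk'.symm))
    rw [← hku, hfib]

theorem centCount_le (P : Subgroup X) (x : X) : centCount P x ≤ Nat.card P :=
  Nat.card_le_card_of_injective _ Subtype.val_injective

theorem commute_of_centCount_eq {P : Subgroup X} {x : X} (h : centCount P x = Nat.card P) (v : P) :
    Commute (v : X) x := by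
  obtain ⟨w, hw⟩ := ((Nat.bijective_iff_injective_and_card
    (Subtype.val : {v : P // Commute (v : X) x} → P)).2 ⟨Subtype.val_injective, h⟩).2 v
  rw [← hw]
  exact w.2

theorem centCount_of_forall {P : Subgroup X} {x : X} (h : ∀ v ∈ P, Commute v x) :
    centCount P x = Nat.card P :=
  Nat.card_congr (Equiv.subtypeUnivEquiv fun v => h v v.2)

/-- For a regular element the centraliser order in `P` is multiplicative along a normal
subgroup inside `P`. -/
theorem centCount_eq_mul (P Z : Subgroup X) [Z.Normal] (hP : IsPGroup p P) (hZP : Z ≤ P) {x : X}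
    (hx : ¬ p ∣ orderOf x) :
    centCount P x = centCount Z x * centCount (P.map (QuotientGroup.mk' Z)) (x : X ⧸ Z) := by
  classical
  let H : Subgroup X := P ⊓ Subgroup.centralizer ({x} : Set X)
  let Hq : Subgroup (X ⧸ Z) := P.map (QuotientGroup.mk' Z) ⊓ Subgroup.centralizer ({(x : X ⧸ Z)} : Set _)
  have hH : centCount P x = Nat.card H := Nat.card_congr
    { toFun := fun v => ⟨v.1, v.1.2, Subgroup.mem_centralizer_singleton_iff.2 v.2.eq⟩
      invFun := fun v => ⟨⟨v.1, v.2.1⟩, Subgroup.mem_centralizer_singleton_iff.1 v.2.2⟩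
      left_inv := fun _ => rfl
      right_inv := fun _ => rfl }
  have hHq : centCount (P.map (QuotientGroup.mk' Z)) (x : X ⧸ Z) = Nat.card Hq := Nat.card_congr
    { toFun := fun v => ⟨v.1, v.1.2, Subgroup.mem_centralizer_singleton_iff.2 v.2.eq⟩
      invFun := fun v => ⟨⟨v.1, v.2.1⟩, Subgroup.mem_centralizer_singleton_iff.1 v.2.2⟩
      left_inv := fun _ => rfl
      right_inv := fun _ => rfl }
  let φ : H →* X ⧸ Z := (QuotientGroup.mk' Z).comp H.subtype
  have hrange : φ.range = Hq := by
    refine le_antisymm ?_ ?_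
    · rintro _ ⟨v, rfl⟩
      refine ⟨⟨v, v.2.1, rfl⟩, Subgroup.mem_centralizer_singleton_iff.2 ?_⟩
      show QuotientGroup.mk' Z (v : X) * QuotientGroup.mk' Z x =
        QuotientGroup.mk' Z x * QuotientGroup.mk' Z (v : X)
      rw [← map_mul, ← map_mul, Subgroup.mem_centralizer_singleton_iff.1 v.2.2]
    · rintro _ ⟨⟨v, hv, rfl⟩, hvc⟩
      have h2 : ((v * x * v⁻¹ : X) : X ⧸ Z) = (x : X ⧸ Z) := by
        rw [QuotientGroup.mk_mul, QuotientGroup.mk_mul, QuotientGroup.mk_inv]
        exact mul_inv_eq_iff_eq_mul.2 (Subgroup.mem_centralizer_singleton_iff.1 hvc)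
      have h3 : v * x * v⁻¹ * x⁻¹ ∈ Z := by
        rw [← QuotientGroup.eq_one_iff, QuotientGroup.mk_mul, h2, ← QuotientGroup.mk_mul,
          mul_inv_cancel, QuotientGroup.mk_one]
      obtain ⟨k, hk, hke⟩ := exists_conj_of_regular Z (hP.to_le hZP) hx
        (by rw [orderOf_conj]; exact hx) h3
      refine ⟨⟨k⁻¹ * v, P.mul_mem (P.inv_mem (hZP hk)) hv,
        Subgroup.mem_centralizer_singleton_iff.2 ?_⟩, ?_⟩
      · calc k⁻¹ * v * x = k⁻¹ * (v * x * v⁻¹) * v := by group
          _ = _ := by rw [hke]; group
      · show QuotientGroup.mk' Z (k⁻¹ * v) = QuotientGroup.mk' Z v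
        rw [map_mul, map_inv, show QuotientGroup.mk' Z k = 1 from (QuotientGroup.eq_one_iff k).2 hk,
          inv_one, one_mul]
  have hker : Nat.card φ.ker = centCount Z x := Nat.card_congr
    { toFun := fun v => ⟨⟨(v : H), (QuotientGroup.eq_one_iff _).1 v.2⟩,
        Subgroup.mem_centralizer_singleton_iff.1 (v : H).2.2⟩
      invFun := fun v => ⟨⟨v.1, hZP v.1.2, Subgroup.mem_centralizer_singleton_iff.2 v.2.eq⟩,
        (QuotientGroup.eq_one_iff _).2 v.1.2⟩
      left_inv := fun _ => rfl
      right_inv := fun _ => rfl }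
  rw [hH, hHq, ← hrange, ← φ.ker.card_mul_index, Subgroup.index_ker, hker]

omit hp in
theorem isCharacter_fixCount (Y : Type*) [MulAction X Y] [Finite Y] :
    IsCharacter X fun g => (PermChar.fixCount Y g : ℂ) := by
  classical
  letI := Fintype.ofFinite X
  letI := Fintype.ofFinite (Quotient (MulAction.orbitRel X Y))
  rw [PermChar.fixCount_eq_sum_orbits Y]
  exact isCharacter_sum _ fun ω _ =>
    Induction.isCharacter_indFun _ Induction.isCharacter_const_one

/-- The number of elements of a normal subgroup commuting with `x` is a character. -/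
theorem isCharacter_centCount (Z : Subgroup X) [Z.Normal] :
    IsCharacter X fun x => (centCount Z x : ℂ) := by
  letI : MulAction X Z := MulAction.compHom Z (MulAut.conjNormal (H := Z))
  convert isCharacter_fixCount (X := X) Z using 1
  funext g
  congr 1
  refine Nat.card_congr (Equiv.subtypeEquivRight fun v => ?_)
  show Commute (v : X) g ↔ MulAut.conjNormal g v = v
  rw [Subtype.ext_iff, MulAut.conjNormal_apply, mul_inv_eq_iff_eq_mul]
  exact ⟨fun h => h.eq.symm, fun h => h.symm⟩

/-- For a normal `p`-subgroup `P` there is a character constant on its cosets whose value at each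
regular element is the order of the centraliser in `P`. -/
theorem exists_piChar : ∀ (n : ℕ) (X : Type u) [Group X] [Finite X] (P : Subgroup X) [P.Normal],
    IsPGroup p P → Nat.card P ≤ n →
    ∃ π : X → ℕ, IsCharacter X (fun x => (π x : ℂ)) ∧ (∀ u ∈ P, ∀ x, π (u * x) = π x) ∧
      ∀ x, ¬ p ∣ orderOf x → π x = centCount P x := by
  intro n
  induction n with
  | zero => intro X _ _ P _ _ h; exact absurd h (by simpa using (Nat.card_pos (α := P)).ne')
  | succ n ih =>
    intro X _ _ P _ hP hn
    classical
    rcases eq_or_ne P ⊥ with rfl | hne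
    · refine ⟨fun _ => 1, by simpa using (Induction.isCharacter_const_one (G := X)), fun _ _ _ => rfl, fun x _ => ?_⟩
      rw [centCount_of_forall (fun v hv => by rw [Subgroup.mem_bot.1 hv]; exact Commute.one_left x)]
      exact Subgroup.card_bot.symm
    haveI : Nontrivial P := (Subgroup.nontrivial_iff_ne_bot P).2 hne
    haveI := hP.center_nontrivial
    let Z : Subgroup X := (Subgroup.center P).map P.subtype
    haveI : Z.Normal := inferInstance
    have hZP : Z ≤ P := Subgroup.map_subtype_le _
    have hZc : ∀ v ∈ P, ∀ z ∈ Z, Commute z v := by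
      rintro v hv _ ⟨z, hz, rfl⟩
      exact (congrArg Subtype.val (Subgroup.mem_center_iff.1 hz ⟨v, hv⟩)).symm
    set q := QuotientGroup.mk' Z with hq
    haveI : (P.map q).Normal := Subgroup.Normal.map inferInstance q (QuotientGroup.mk'_surjective Z)
    have hcard : Nat.card (P.map q) ≤ n := by
      have hdvd := Subgroup.card_map_dvd P q
      have hne' : Nat.card (P.map q) ≠ Nat.card P := by
        intro he
        have h1 : Function.Injective (q.subgroupMap P) := ((Nat.bijective_iff_surjective_and_card _).2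
          ⟨q.subgroupMap_surjective P, he.symm⟩).1
        obtain ⟨z, hz⟩ := exists_ne (1 : Subgroup.center P)
        refine hz (Subtype.ext (h1 (Subtype.ext ?_)))
        show q ((z : P) : X) = q 1
        rw [map_one]
        exact (QuotientGroup.eq_one_iff _).2 ⟨z, z.2, rfl⟩
      have := Nat.le_of_dvd Nat.card_pos hdvd
      omega
    obtain ⟨π, hπc, hπi, hπr⟩ := ih (X ⧸ Z) (P.map q) (hP.map q) hcard
    refine ⟨fun x => centCount Z x * π (q x), ?_, fun u hu x => ?_, fun x hx => ?_⟩
    · have h2 : IsCharacter X (fun x => (π (q x) : ℂ)) :=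
        CfsgLib.Clifford.isCharacter_pullback hπc q
      convert isCharacter_mul (isCharacter_centCount Z) h2 using 1
      funext x; simp
    · show centCount Z (u * x) * π (q (u * x)) = _
      rw [map_mul, hπi _ ⟨u, hu, rfl⟩]
      congr 1
      refine Nat.card_congr (Equiv.subtypeEquivRight fun z => ?_)
      have hzu : Commute (z : X) u := hZc u hu z z.2
      constructor
      · intro h
        have := (hzu.inv_right).mul_right h
        rwa [inv_mul_cancel_left] at this
      · exact fun h => hzu.mul_right h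
    · show centCount Z x * π (q x) = _
      rw [centCount_eq_mul P Z hP hZP hx, hπr (q x) fun h => hx (h.trans (orderOf_map_dvd q x))]
      rfl

end CfsgLib.WeightedSum
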