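import Cfsg.Agent.Lib.CharCorr.InvariantCover
import Cfsg.Agent.Lib.Blocks.OverPrimeCore
import Cfsg.Agent.Lib.WeightedSum.Over

/-!
# The characters over an invariant character of the `p'`-core
-/

set_option autoImplicit false
set_option linter.style.haveILetI false
set_option linter.unusedSectionVars false
open Cfsg CfsgLib.Characters CfsgLib.CharCorr CfsgLib.CharExtension CfsgLib.CoprimeFixed CfsgLib.PCore
open scoped ComplexConjugate

namespace CfsgLib.WeightedSum

universe u

/-- An invariant character of a normal `p'`-subgroup extends to a central extension by a `p'`-group. -/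
theorem exists_coprime_lift {G : Type u} [Group G] [Fintype G] {p : ℕ} (hp : p.Prime)
    (N : Subgroup G) [hN : N.Normal] [Fintype N] (hNp : ¬ p ∣ Nat.card N) (θ : IrrCharacter N)
    (hinv : ∀ (x : G) (n : N), (θ : N → ℂ) (conjN N x n) = (θ : N → ℂ) n) :
    ∃ (L : Type u) (_ : Group L) (_ : Finite L) (π : L →* G) (σ : L → ℂ) (j : N →* L)
      (c : π.ker →* ℂˣ), Function.Surjective π ∧ IsCharacter L σ ∧ (∀ n, π (j n) = n) ∧
      (∀ n, σ (j n) = (θ : N → ℂ) n) ∧ j.range.Normal ∧
      (∀ z : π.ker, (z : L) ∈ Subgroup.center L ∧ ∀ y, σ ((z : L) * y) = (c z : ℂ) * σ y) ∧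
      ¬ p ∣ Nat.card π.ker := by
  classical
  obtain ⟨d, ρ, hρ, hθ⟩ := θ.2
  haveI := hρ
  have hd : 0 < d := pos_of_irreducible ρ
  have hinv' : ∀ g n, ρ.character (conjN N g n) = ρ.character n := fun g n => by
    rw [hθ]; exact hinv g n
  set M := Nat.card N with hM
  have hM0 : 0 < M := Nat.card_pos
  let detU : interGroup N ρ →* ℂˣ := (Units.map LinearMap.det).comp (op N ρ)
  let T : Subgroup (interGroup N ρ) := ((powMonoidHom M).comp detU).ker
  let f : T →* G := (proj N ρ).comp T.subtype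
  have hdetsc : ∀ c : ℂˣ, Units.map LinearMap.det (sc d c) = c ^ d := fun c => Units.ext (by
    rw [Units.val_pow_eq_pow_val]; exact det_sc c)
  have hfs : Function.Surjective f := by
    intro g
    obtain ⟨γ, hγ⟩ := proj_surjective N ρ hinv' g
    obtain ⟨b, hb⟩ := CfsgLib.LinearExt.exists_root d hd (detU γ)⁻¹
    let s : interGroup N ρ := ⟨(((1 : N) : G), sc d b * rhoU N ρ 1), sc_mem N ρ b 1⟩
    refine ⟨⟨s * γ, ?_⟩, ?_⟩
    · rw [MonoidHom.mem_ker]
      show (detU (s * γ)) ^ M = 1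
      rw [map_mul detU]
      have : detU s = b ^ d := by
        show Units.map LinearMap.det (sc d b * rhoU N ρ 1) = _
        rw [map_one (rhoU N ρ), mul_one, hdetsc]
      rw [this, hb, inv_mul_cancel, one_pow]
    · show proj N ρ (s * γ) = g
      rw [map_mul, hγ]
      exact one_mul g
  -- the kernel is scalar
  have hker : ∀ k : f.ker, ∃ c : ℂˣ, op N ρ (k : T) = sc d c := by
    intro k
    have h1 : proj N ρ (k : T) = 1 := k.2
    obtain ⟨c, hc⟩ := exists_coord N ρ (γ := ((k : T) : interGroup N ρ)) (h1 ▸ N.one_mem)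
    refine ⟨c, ?_⟩
    rw [hc, show (⟨proj N ρ ((k : T) : interGroup N ρ), h1 ▸ N.one_mem⟩ : N) = 1 from Subtype.ext h1,
      map_one, mul_one]
  choose co hco using hker
  have hsci := sc_injective (d := d) hd
  have hcomul : ∀ a b : f.ker, co (a * b) = co a * co b := fun a b => hsci (by
    rw [map_mul (sc d), ← hco, ← hco, ← hco, ← map_mul (op N ρ)]; rfl)
  have hkext : ∀ a b : f.ker, co a = co b → a = b := fun a b h => by
    apply Subtype.ext; apply Subtype.ext; apply Subtype.ext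
    refine Prod.ext ((show proj N ρ (a : T) = 1 from a.2).trans (show proj N ρ (b : T) = 1 from b.2).symm) ?_
    show op N ρ ((a : T) : interGroup N ρ) = op N ρ ((b : T) : interGroup N ρ)
    rw [hco a, hco b, h]
  haveI : Finite f.ker := by
    haveI : NeZero (d * M) := ⟨(Nat.mul_pos hd hM0).ne'⟩
    refine Finite.of_injective (fun k => (⟨co k, ?_⟩ : rootsOfUnity (d * M) ℂ)) fun a b h =>
      hkext a b (congrArg Subtype.val h)
    rw [mem_rootsOfUnity, pow_mul, ← hdetsc, ← hco]
    exact (k : T).2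
  haveI : Finite T := by
    haveI : Finite (T ⧸ f.ker) := Finite.of_injective _ (QuotientGroup.kerLift_injective f)
    exact Finite.of_equiv _ (Subgroup.groupEquivQuotientProdSubgroup (s := f.ker)).symm
  -- the copy of `N`
  let lf : N →* T := (liftN N ρ).codRestrict T fun n => by
    rw [MonoidHom.mem_ker]
    show (Units.map LinearMap.det (rhoU N ρ n)) ^ M = 1
    rw [← MonoidHom.comp_apply, ← map_pow, hM, pow_card_eq_one', map_one]
  let σ : Representation ℂ T (Fin d → ℂ) := (Units.coeHom _).comp ((op N ρ).comp T.subtype)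
  let c : f.ker →* ℂˣ := MonoidHom.mk' co hcomul
  refine ⟨T, inferInstance, inferInstance, f, σ.character, lf, c, hfs, ⟨d, σ, rfl⟩, fun n => rfl,
    fun n => ?_, ⟨?_⟩, fun z => ⟨?_, fun y => ?_⟩, ?_⟩
  · rw [← hθ]; rfl
  · rintro _ ⟨n, rfl⟩ γ
    refine ⟨conjN N (f γ) n, Subtype.ext (Subtype.ext (Prod.ext rfl ?_))⟩
    show rhoU N ρ (conjN N (f γ) n) = op N ρ γ * rhoU N ρ n * (op N ρ γ)⁻¹
    rw [op_spec, mul_inv_cancel_right]
    rfl
  · refine Subgroup.mem_center_iff.2 fun y => Subtype.ext (Subtype.ext (Prod.ext ?_ ?_))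
    · show f y * f (z : T) = f (z : T) * f y
      rw [show f (z : T) = 1 from z.2, one_mul, mul_one]
    · show op N ρ y * op N ρ ((z : T) : interGroup N ρ) = op N ρ ((z : T) : interGroup N ρ) * op N ρ y
      rw [hco z, sc_commute]
  · show LinearMap.trace ℂ _ (op N ρ (((z : T) * y : T) : interGroup N ρ)).1 =
      (co z : ℂ) * LinearMap.trace ℂ _ (op N ρ y).1
    rw [Subgroup.coe_mul, map_mul, hco z, Units.val_mul]
    show LinearMap.trace ℂ _ (algebraMap ℂ (Module.End ℂ (Fin d → ℂ)) (co z : ℂ) * _) = _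
    rw [Algebra.algebraMap_eq_smul_one, smul_mul_assoc, one_mul, map_smul, smul_eq_mul]
  · haveI : NeZero (d * M) := ⟨(Nat.mul_pos hd hM0).ne'⟩
    have hmem : ∀ k : f.ker, c k ∈ rootsOfUnity (d * M) ℂ := fun k => by
      rw [mem_rootsOfUnity, pow_mul]
      show (co k ^ d) ^ M = 1
      rw [← hdetsc, ← hco]
      exact (k : T).2
    have hinj : Function.Injective (c.codRestrict _ hmem) := fun a b h =>
      hkext a b (congrArg Subtype.val h)
    have hdvd := Subgroup.card_dvd_of_injective _ hinj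
    rw [show Nat.card (rootsOfUnity (d * M) ℂ) = d * M by
      exact HasEnoughRootsOfUnity.natCard_rootsOfUnity ℂ (d * M)] at hdvd
    have hdθ : d ∣ Nat.card N := by
      have h := charDegree_irr_dvd_card θ
      rwa [← hθ, charDegree, Representation.char_one, Module.finrank_fin_fun, Complex.natCast_re,
        Nat.floor_natCast] at h
    intro hdiv
    rcases hp.dvd_mul.1 (hdiv.trans hdvd) with h | h
    · exact hNp (h.trans hdθ)
    · exact hNp h

variable {G : Type u} [Group G] [Fintype G] {p : ℕ} [hp : Fact p.Prime]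

/-- Over an invariant character of the `p'`-core of a `p`-solvable group a set of characters with
vanishing weighted sum is empty or everything. -/
theorem mem_of_over (hsolv : IsPSolvable p G) (N : Subgroup G) [hN : N.Normal] [Fintype N]
    (hNp : ¬ p ∣ Nat.card N) (hcore : pPrimeCore p G ≤ N) (θ : IrrCharacter N)
    (hinv : ∀ (x : G) (n : N), (θ : N → ℂ) (conjN N x n) = (θ : N → ℂ) n)
    (U : Finset (IrrCharacter G)) (hUo : ∀ χ ∈ U, Over N θ χ)
    (hU : ∀ x, p ∣ orderOf x → fsum U x = 0) (hne : U.Nonempty) {ψ : IrrCharacter G}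
    (hψ : Over N θ ψ) : ψ ∈ U := by
  classical
  by_contra hψU
  set O : Finset (IrrCharacter G) := Finset.univ.filter (Over N θ) with hO
  set V := O \ U with hVdef
  have hUO : U ⊆ O := fun χ h => Finset.mem_filter.2 ⟨Finset.mem_univ _, hUo χ h⟩
  have hV : ∀ x, p ∣ orderOf x → fsum V x = 0 := by
    intro x hx
    have h1 : fsum O x = 0 := fsum_over_eq_zero N hp.out hNp θ Finset.univ
      (fun y hy => fsum_univ_eq_zero hp.out hy) hx
    rw [fsum, hVdef, Finset.sum_sdiff_eq_sub hUO]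
    rw [fsum] at h1
    rw [h1, show ∑ χ ∈ U, (χ : G → ℂ) 1 * (χ : G → ℂ) x = 0 from hU x hx, sub_zero]
  obtain ⟨L, _, _, π, σ, j, c, hπs, hσ, hπj, hσj, hR, hker, hKp⟩ :=
    exists_coprime_lift hp.out N hNp θ hinv
  haveI := hR
  haveI : Fintype L := Fintype.ofFinite L
  set R := j.range with hRdef
  haveI : Fintype R := Fintype.ofFinite R
  set q := QuotientGroup.mk' R with hq
  have hqs : Function.Surjective q := QuotientGroup.mk'_surjective R
  haveI : Fintype (L ⧸ R) := Fintype.ofFinite _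
  have hjinj : Function.Injective j := fun a b h => Subtype.ext (by rw [← hπj a, ← hπj b, h])
  let jz : π.ker →* L ⧸ R := q.comp π.ker.subtype
  have hjz : Function.Injective jz := by
    rw [injective_iff_map_eq_one]
    intro k hk
    obtain ⟨n, hn⟩ := (QuotientGroup.eq_one_iff (k : L)).1 hk
    have h1 : n = 1 := Subtype.ext ((hπj n).symm.trans ((congrArg π hn).trans k.2))
    rw [h1, map_one] at hn
    exact Subtype.ext hn.symm
  set Z := jz.range with hZ
  haveI : Fintype Z := Fintype.ofFinite Z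
  let ez : π.ker ≃* Z := MonoidHom.ofInjective hjz
  have hZc : Z ≤ Subgroup.center (L ⧸ R) := by
    rintro _ ⟨k, rfl⟩
    rw [Subgroup.mem_center_iff]
    intro y
    obtain ⟨γ, rfl⟩ := hqs y
    show q γ * q k = q k * q γ
    rw [← map_mul, ← map_mul, Subgroup.mem_center_iff.1 (hker k).1 γ]
  haveI : Z.Normal := ⟨fun z hz g => by
    rwa [Subgroup.mem_center_iff.1 (hZc hz) g, mul_inv_cancel_right]⟩
  have hZcard : Nat.card Z = Nat.card π.ker := (Nat.card_congr ez.toEquiv).symm
  have hcoreX : pPrimeCore p (L ⧸ R) ≤ Z := by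
    intro x hx
    obtain ⟨y, rfl⟩ := hqs x
    have hK : ((pPrimeCore p (L ⧸ R)).comap q).map π ≤ N := by
      haveI : (pPrimeCore p (L ⧸ R)).Normal := pPrimeCore_normal p _
      refine le_trans (le_pPrimeCore (Subgroup.Normal.map inferInstance π hπs) ?_) hcore
      refine Nat.Coprime.coprime_dvd_left (Subgroup.card_map_dvd _ π) ?_
      rw [hq, card_comap_mk']
      refine Nat.Coprime.mul_left ?_ ?_ <;>
        first
        | exact pPrimeCore_coprime
        | exact coprime_of_not_dvd_card (by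
            rwa [show Nat.card R = Nat.card N from
              (Nat.card_congr (MonoidHom.ofInjective hjinj).toEquiv).symm])
    have hy : π y ∈ N := hK ⟨y, hx, rfl⟩
    refine ⟨⟨y * (j ⟨π y, hy⟩)⁻¹, by rw [MonoidHom.mem_ker, map_mul, map_inv, hπj, mul_inv_cancel]⟩, ?_⟩
    show q (y * (j ⟨π y, hy⟩)⁻¹) = q y
    rw [map_mul, map_inv, show q (j ⟨π y, hy⟩) = 1 from (QuotientGroup.eq_one_iff _).2 ⟨_, rfl⟩,
      inv_one, mul_one]
  have hsolvX : IsPSolvable p (L ⧸ R) :=
    isPSolvable_quotient (isPSolvable_extension π.ker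
      (isPSolvable_of_coprime (coprime_of_not_dvd_card hKp))
      (isPSolvable_of_equiv (QuotientGroup.quotientKerEquivOfSurjective π hπs).symm hsolv)) R
  let lam : Z →* ℂˣ := MonoidHom.mk' (fun z => (c (ez.symm z))⁻¹) fun a b => by
    rw [map_mul, map_mul, mul_inv]
  set S : Finset (IrrCharacter (L ⧸ R)) := Finset.univ.filter
    fun η => ∀ z : Z, (η : L ⧸ R → ℂ) z = (lam z : ℂ) * (η : L ⧸ R → ℂ) 1 with hS
  choose sg hsg using hπs
  let F : IrrCharacter (L ⧸ R) → L → ℂ := fun η y => σ y * (η : L ⧸ R → ℂ) (q y)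
  have hFw : ∀ η ∈ S, ∀ y, F η (sg (π y)) = F η y := by
    intro η hη y
    have hk : sg (π y) * y⁻¹ ∈ π.ker := by
      rw [MonoidHom.mem_ker, map_mul, map_inv, hsg, mul_inv_cancel]
    set k : π.ker := ⟨_, hk⟩ with hkdef
    rw [show sg (π y) = (k : L) * y from (inv_mul_cancel_right _ y).symm]
    show σ ((k : L) * y) * (η : L ⧸ R → ℂ) (q ((k : L) * y)) = σ y * (η : L ⧸ R → ℂ) (q y)
    have hz : (lam (ez k) : ℂˣ) = (c k)⁻¹ := by
      show (c (ez.symm (ez k)))⁻¹ = _
      rw [MulEquiv.symm_apply_apply]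
    have h2 : (η : L ⧸ R → ℂ) (q ((k : L) * y)) = ((c k)⁻¹ : ℂˣ) * (η : L ⧸ R → ℂ) (q y) := by
      rw [map_mul, show q (k : L) = ((ez k : Z) : L ⧸ R) from rfl,
        CentralDefect.apply_central_mul η (hZc (ez k).2), (Finset.mem_filter.1 hη).2 (ez k), hz,
        mul_div_cancel_right₀ _ (irr_one_ne_zero η)]
    rw [(hker k).2, h2, show (c k : ℂ) * σ y * ((((c k)⁻¹ : ℂˣ) : ℂ) * (η : L ⧸ R → ℂ) (q y)) =
      (c k : ℂ) * (((c k)⁻¹ : ℂˣ) : ℂ) * (σ y * (η : L ⧸ R → ℂ) (q y)) by ring, Units.mul_inv,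
      one_mul]
  have hσR : IsIrrCharacter R (fun r : R => σ r) := by
    let pR : R →* N := (MonoidHom.ofInjective hjinj).symm.toMonoidHom
    have : (fun r : R => σ r) = fun r => (θ : N → ℂ) (pR r) := funext fun r => by
      obtain ⟨n, rfl⟩ := (MonoidHom.ofInjective hjinj).surjective r
      show σ (j n) = (θ : N → ℂ) ((MonoidHom.ofInjective hjinj).symm (MonoidHom.ofInjective hjinj n))
      rw [hσj, MulEquiv.symm_apply_apply]
    rw [this]
    exact Clifford.isIrrCharacter_pullback θ.2 pR (MonoidHom.ofInjective hjinj).symm.surjective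
  have hqR : ∀ (r : R) (y : L), q ((r : L) * y) = q y := fun r y => by
    rw [map_mul, show q (r : L) = 1 from (QuotientGroup.eq_one_iff _).2 r.2, one_mul]
  have hirr : ∀ η ∈ S, IsIrrCharacter G (fun g => F η (sg g)) := by
    intro η hη
    refine CharCorrQ.isIrrCharacter_of_pullback π (fun g => ⟨sg g, hsg g⟩) ?_
    rw [show (fun a => F η (sg (π a))) = F η from funext (hFw η hη)]
    have hηc : IsCharacter L (fun y => (η : L ⧸ R → ℂ) (q y)) :=
      Clifford.isCharacter_pullback (irr_isCharacter η) q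
    refine (isIrrCharacter_iff_classInner_self (isCharacter_mul hσ hηc)).2 ?_
    have h := NormalAvg.classInner_avgN_left R (fun y => σ y * conj (σ y))
      (f := fun y => (η : L ⧸ R → ℂ) (q y) * conj ((η : L ⧸ R → ℂ) (q y)))
      (fun r y => by simp only [hqR])
    rw [show NormalAvg.avgN R (fun y => σ y * conj (σ y)) = fun _ => 1 from
      NormalAvg.pairAvg_self R hσ hσR] at h
    rw [← classInner_irr_self (Clifford.isIrrCharacter_pullback η.2 q hqs)]
    unfold classInner at h ⊢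
    refine Eq.trans ?_ (h.symm.trans ?_)
    · congr 1
      exact Finset.sum_congr rfl fun y _ => by simp; ring
    · congr 1
      exact Finset.sum_congr rfl fun y _ => by simp; ring
  let Φ : {η // η ∈ S} → IrrCharacter G := fun η => ⟨_, hirr η.1 η.2⟩
  have hsig : ∀ x : L ⧸ R, ∃ y, q y = x ∧ σ y ≠ 0 := by
    intro x
    obtain ⟨y₀, rfl⟩ := hqs x
    by_contra! hall
    have h := congrFun (NormalAvg.pairAvg_self R hσ hσR) y₀
    rw [NormalAvg.pairAvg_apply, Finset.sum_eq_zero (fun r _ => by rw [hall _ (hqR r y₀), zero_mul]),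
      mul_zero] at h
    exact zero_ne_one h
  have hΦval : ∀ (η : {η // η ∈ S}) (y : L),
      (Φ η : G → ℂ) (π y) = σ y * (η.1 : L ⧸ R → ℂ) (q y) := fun η y => hFw η.1 η.2 y
  have hΦinj : Function.Injective Φ := by
    intro a b hab
    apply Subtype.ext; apply Subtype.ext
    funext x
    obtain ⟨y, rfl, hy⟩ := hsig x
    apply mul_left_cancel₀ hy
    rw [← hΦval a, ← hΦval b, hab]
  have hσ1 : σ 1 = (θ : N → ℂ) 1 := by rw [← hσj 1, map_one]
  have hΦone : ∀ η : {η // η ∈ S}, (Φ η : G → ℂ) 1 = (θ : N → ℂ) 1 * (η.1 : L ⧸ R → ℂ) 1 := by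
    intro η
    rw [← map_one π, hΦval, map_one q, hσ1]
  have hΦO : ∀ η, Φ η ∈ O := by
    intro η
    refine Finset.mem_filter.2 ⟨Finset.mem_univ _, ?_⟩
    show classInner (fun n : N => (Φ η : G → ℂ) n) (θ : N → ℂ) ≠ 0
    rw [show (fun n : N => (Φ η : G → ℂ) n) = (η.1 : L ⧸ R → ℂ) 1 • (θ : N → ℂ) from funext fun n => by
      rw [← hπj n, hΦval, hσj, show q (j n) = 1 from (QuotientGroup.eq_one_iff _).2 ⟨n, rfl⟩,
        Pi.smul_apply, smul_eq_mul, mul_comm], classInner_smul_left, classInner_irr_self θ.2, mul_one]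
    exact irr_one_ne_zero _
  -- counting degrees
  have hcount : ∑ χ ∈ O, charDegree (χ : G → ℂ) ^ 2 = N.index * charDegree (θ : N → ℂ) ^ 2 := by
    rw [← BlockOver.sum_degree_sq (K := N) (θ := θ) (fun g n => hinv g n),
      finsum_mem_eq_finite_toFinset_sum _ (Set.toFinite _)]
    exact Finset.sum_congr (by ext χ; simp [hO, Over, BlockOver.overSet]) fun _ _ => rfl
  have hcountS : ∑ η ∈ S, charDegree (η : L ⧸ R → ℂ) ^ 2 = Z.index := by
    let μ : IrrCharacter Z := ⟨_, isIrrCharacter_of_hom lam⟩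
    have hμ1 : charDegree (μ : Z → ℂ) = 1 := by simp [μ, charDegree]
    have h := BlockOver.sum_degree_sq (K := Z) (θ := μ) (fun g z => congrArg (fun t : Z => (lam t : ℂ))
      (Subtype.ext (show g * (z : L ⧸ R) * g⁻¹ = z by
        rw [Subgroup.mem_center_iff.1 (hZc z.2) g, mul_inv_cancel_right])))
    rw [hμ1, one_pow, mul_one, finsum_mem_eq_finite_toFinset_sum _ (Set.toFinite _)] at h
    rw [← h]
    refine Finset.sum_congr ?_ fun _ _ => rfl
    ext η
    simp only [hS, Set.Finite.mem_toFinset, Finset.mem_filter, Finset.mem_univ, true_and]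
    constructor
    · intro hη
      show classInner (fun z : Z => (η : L ⧸ R → ℂ) z) (μ : Z → ℂ) ≠ 0
      rw [show (fun z : Z => (η : L ⧸ R → ℂ) z) = (η : L ⧸ R → ℂ) 1 • (μ : Z → ℂ) from
        funext fun z => by rw [hη z, Pi.smul_apply, smul_eq_mul, mul_comm],
        classInner_smul_left, classInner_irr_self μ.2, mul_one]
      exact irr_one_ne_zero η
    · intro hη z
      have := CoprimeFixed.central_of_constituent Z hZc lam η hη z 1
      rwa [mul_one] at this
  have hidx : Z.index = N.index := by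
    have e1 := Subgroup.card_mul_index π.ker
    rw [Subgroup.index_ker, MonoidHom.range_eq_top.2 (fun g => ⟨sg g, hsg g⟩), Subgroup.card_top] at e1
    have e2 := Subgroup.card_mul_index Z
    have e3 := Subgroup.card_mul_index R
    rw [Subgroup.index_eq_card R, ← e2, hZcard,
      show Nat.card R = Nat.card N from (Nat.card_congr (MonoidHom.ofInjective hjinj).toEquiv).symm,
      ← e1, ← Subgroup.card_mul_index N] at e3
    refine Nat.eq_of_mul_eq_mul_left (Nat.mul_pos (Nat.card_pos (α := π.ker)) (Nat.card_pos (α := N))) ?_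
    linear_combination e3
  have himage : Finset.univ.image Φ = O := by
    refine Finset.eq_of_subset_of_card_le
      (fun χ hχ => by obtain ⟨η, -, rfl⟩ := Finset.mem_image.1 hχ; exact hΦO η) ?_
    by_contra! hlt
    have hsub : Finset.univ.image Φ ⊆ O :=
      fun χ hχ => by obtain ⟨η, -, rfl⟩ := Finset.mem_image.1 hχ; exact hΦO η
    obtain ⟨χ, hχ, hχn⟩ := Finset.exists_of_ssubset
      ((Finset.ssubset_iff_subset_ne).2 ⟨hsub, fun e => hlt.ne (by rw [e])⟩)
    have h1 : ∑ χ ∈ Finset.univ.image Φ, charDegree (χ : G → ℂ) ^ 2 <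
        ∑ χ ∈ O, charDegree (χ : G → ℂ) ^ 2 :=
      Finset.sum_lt_sum_of_subset hsub hχ hχn (pow_pos (charDegree_irr_pos χ) 2)
        fun _ _ _ => Nat.zero_le _
    refine absurd h1 (le_of_eq ?_).not_gt
    rw [hcount, Finset.sum_image hΦinj.injOn, ← hidx, ← hcountS, ← Finset.sum_coe_sort S,
      Finset.sum_mul]
    refine Finset.sum_congr rfl fun η _ => ?_
    have := hΦone η
    rw [irr_one_eq_charDegree, irr_one_eq_charDegree, irr_one_eq_charDegree] at this
    rw [show charDegree (Φ η : G → ℂ) = charDegree (θ : N → ℂ) * charDegree (η.1 : L ⧸ R → ℂ) from by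
      exact_mod_cast this]
    ring
  let pull : Finset (IrrCharacter G) → Finset (IrrCharacter (L ⧸ R)) := fun W =>
    (Finset.univ.filter fun η : {η // η ∈ S} => Φ η ∈ W).map (Function.Embedding.subtype _)
  have hpull : ∀ W ⊆ O, ∀ y : L, fsum W (π y) = (θ : N → ℂ) 1 * σ y * fsum (pull W) (q y) := by
    intro W hW y
    have hWeq : W = (Finset.univ.filter fun η : {η // η ∈ S} => Φ η ∈ W).image Φ := by
      ext χ
      refine ⟨fun h => ?_, fun h => ?_⟩
      · obtain ⟨η, -, rfl⟩ := Finset.mem_image.1 (himage.symm ▸ hW h)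
        exact Finset.mem_image.2 ⟨η, Finset.mem_filter.2 ⟨Finset.mem_univ _, h⟩, rfl⟩
      · obtain ⟨η, hη, rfl⟩ := Finset.mem_image.1 h
        exact (Finset.mem_filter.1 hη).2
    conv_lhs => rw [fsum, hWeq, Finset.sum_image hΦinj.injOn]
    rw [fsum, Finset.sum_map, Finset.mul_sum]
    refine Finset.sum_congr rfl fun η _ => ?_
    rw [hΦone, hΦval]
    show _ = _ * (_ * (η.1 : L ⧸ R → ℂ) (q y))
    simp only [Function.Embedding.coe_subtype]
    ring
  have hvan : ∀ W ⊆ O, (∀ x, p ∣ orderOf x → fsum W x = 0) →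
      ∀ x : L ⧸ R, p ∣ orderOf x → fsum (pull W) x = 0 := by
    intro W hW hWv x hx
    obtain ⟨y, rfl, hy⟩ := hsig x
    have h := hpull W hW y
    rw [hWv _ (singular_map hp.out π hKp (hx.trans (orderOf_map_dvd q y)))] at h
    exact (mul_eq_zero.1 h.symm).resolve_left (mul_ne_zero (irr_one_ne_zero θ) hy)
  have hmemS : ∀ W, ∀ η ∈ pull W, η ∈ S := fun W η hη => by
    obtain ⟨a, -, rfl⟩ := Finset.mem_map.1 hη
    exact a.2
  have hpullmem : ∀ W, ∀ a : {η // η ∈ S}, a.1 ∈ pull W ↔ Φ a ∈ W := by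
    intro W a
    simp [pull]
  refine core_false hsolvX Z hZc (by rwa [hZcard]) hcoreX lam (pull U) (pull V) (fun η => ?_) ?_
    (hvan U hUO hU) (hvan V Finset.sdiff_subset hV) ?_ ?_
  · refine Iff.trans ?_ ⟨fun h => (Finset.mem_filter.1 h).2,
      fun h => (Finset.mem_filter.2 ⟨Finset.mem_univ _, h⟩ : η ∈ S)⟩
    refine ⟨fun h => h.elim (hmemS U η) (hmemS V η), fun h => ?_⟩
    by_cases hm : Φ ⟨η, h⟩ ∈ U
    · exact Or.inl ((hpullmem U ⟨η, h⟩).2 hm)
    · exact Or.inr ((hpullmem V ⟨η, h⟩).2 (Finset.mem_sdiff.2 ⟨hΦO _, hm⟩))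
  · rw [Finset.disjoint_left]
    intro η h h'
    exact (Finset.mem_sdiff.1 ((hpullmem V ⟨η, hmemS U η h⟩).1 h')).2
      ((hpullmem U ⟨η, hmemS U η h⟩).1 h)
  · obtain ⟨χ, hχ⟩ := hne
    obtain ⟨a, -, rfl⟩ := Finset.mem_image.1 (himage.symm ▸ hUO hχ)
    exact ⟨a.1, (hpullmem U a).2 hχ⟩
  · have hψO : ψ ∈ O := Finset.mem_filter.2 ⟨Finset.mem_univ _, hψ⟩
    obtain ⟨a, -, ha⟩ := Finset.mem_image.1 (himage.symm ▸ hψO)
    exact ⟨a.1, (hpullmem V a).2 (by rw [ha]; exact Finset.mem_sdiff.2 ⟨hψO, hψU⟩)⟩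

end CfsgLib.WeightedSum
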