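import Cfsg.Agent.Lib.WeightedSum.Lift
import Cfsg.Agent.Lib.WeightedSum.Over

/-!
# Sets with vanishing degree-weighted sums are unions of blocks in `p`-solvable groups
-/

set_option autoImplicit false
set_option linter.style.haveILetI false
set_option linter.unusedSectionVars false
open Cfsg CfsgLib.Characters CfsgLib.CharCorr CfsgLib.PCore
open scoped ComplexConjugate

namespace CfsgLib.WeightedSum

universe u

theorem mem_of_sameBlock_aux {p : ℕ} [hp : Fact p.Prime] {M : Ideal AlgInt} (hM : IsPModular p M) :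
    ∀ (n : ℕ) (G : Type u) [Group G] [Fintype G], Nat.card G ≤ n → IsPSolvable p G →
      ∀ U : Finset (IrrCharacter G), (∀ x, p ∣ orderOf x → fsum U x = 0) →
      ∀ χ ∈ U, ∀ ψ : IrrCharacter G, SameBlock M (χ : G → ℂ) (ψ : G → ℂ) → ψ ∈ U := by
  intro n
  induction n with
  | zero => intro G _ _ h; exact absurd h (by simp)
  | succ n ih =>
    intro G _ _ hn hsolv U hU χ hχ ψ hψ
    classical
    set N := pPrimeCore p G with hNdef
    haveI : N.Normal := pPrimeCore_normal p _
    haveI : Fintype N := Fintype.ofFinite _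
    have hNp : ¬ p ∣ Nat.card N := not_dvd_card_pPrimeCore
    obtain ⟨θ, hθ⟩ := NormalRes.exists_mult_ne_zero N χ
    have hχθ : Over N θ χ := hθ
    have hψθ : Over N θ ψ := Blocks.constituent_of_sameBlock hM hNp hψ θ hχθ
    set W := U.filter (Over N θ) with hW
    have hWv : ∀ x, p ∣ orderOf x → fsum W x = 0 := fun x hx =>
      fsum_over_eq_zero N hp.out hNp θ U hU hx
    have hχW : χ ∈ W := Finset.mem_filter.2 ⟨hχ, hχθ⟩
    let T : Subgroup G :=
      { carrier := {g | conjIrr N g θ = θ}
        one_mem' := Subtype.ext (funext fun m => by rw [conjIrr_apply]; simp)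
        mul_mem' := fun {a b} (ha : conjIrr N a θ = θ) (hb : conjIrr N b θ = θ) => by
          show conjIrr N (a * b) θ = θ
          refine Subtype.ext (funext fun m => ?_)
          have h1 := congrFun (congrArg Subtype.val hb) m
          have h2 := congrFun (congrArg Subtype.val ha)
            ⟨b * m * b⁻¹, (inferInstance : N.Normal).conj_mem m m.2 b⟩
          rw [conjIrr_apply] at h1 h2 ⊢
          rw [← h1, ← h2]
          exact congrArg _ (Subtype.ext (by simp [mul_assoc]))
        inv_mem' := fun {a} (ha : conjIrr N a θ = θ) => by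
          show conjIrr N a⁻¹ θ = θ
          refine Subtype.ext (funext fun m => ?_)
          have h2 := congrFun (congrArg Subtype.val ha)
            ⟨a⁻¹ * m * a, by simpa using (inferInstance : N.Normal).conj_mem m m.2 a⁻¹⟩
          rw [conjIrr_apply] at h2 ⊢
          simp only [mul_assoc, mul_inv_cancel_left, mul_inv_cancel, mul_one, Subtype.coe_eta] at h2
          rw [h2]
          exact congrArg _ (Subtype.ext (by simp [mul_assoc])) }
    have hTmem : ∀ g : G, g ∈ T ↔ conjIrr N g θ = θ := fun g => Iff.rfl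
    by_cases hTtop : T = ⊤
    · have hinv : ∀ (x : G) (m : N), (θ : N → ℂ) (CharExtension.conjN N x m) = (θ : N → ℂ) m := by
        intro x m
        have h := congrFun (congrArg Subtype.val ((hTmem x).1 (hTtop ▸ Subgroup.mem_top x))) m
        rw [conjIrr_apply] at h
        exact h
      have h := mem_of_over hsolv N hNp le_rfl θ hinv W
        (fun c hc => (Finset.mem_filter.1 hc).2) hWv ⟨χ, hχW⟩ hψθ
      exact (Finset.mem_filter.1 h).1
    · haveI : Fintype T := Fintype.ofFinite _
      have hNT : N ≤ T := fun g hg => (hTmem g).2 (Subtype.ext (funext fun m => by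
        rw [conjIrr_apply]
        exact irr_isClassFunction θ m ⟨g, hg⟩))
      have hT : ∀ g : G, g ∈ T ↔ ∀ θ' ∈ ({θ} : Set (IrrCharacter N)),
          conjIrr N g θ' ∈ ({θ} : Set (IrrCharacter N)) := fun g => by
        rw [hTmem]
        exact ⟨fun h θ' hθ' => by rw [Set.mem_singleton_iff.1 hθ', h]; rfl,
          fun h => Set.mem_singleton_iff.1 (h θ rfl)⟩
      have hb := isPBlock_singleton hM hNp θ
      set UT : Finset (IrrCharacter T) := Finset.univ.filter fun φ =>
        classInner (fun m : N => (φ : T → ℂ) ⟨(m : G), hNT m.2⟩) (θ : N → ℂ) ≠ 0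
          ∧ ∃ c ∈ W, (c : G → ℂ) = indFun T (φ : T → ℂ) with hUT
      have hUTv : ∀ t : T, p ∣ orderOf t → fsum UT t = 0 := fun t ht =>
        descend N T hM hNp θ hNT hT W hWv UT (fun φ => by simp [hUT]) ht
      obtain ⟨a, ⟨θa, hθa, ha⟩, hae⟩ := BlockCover.exists_of_covers N {θ} T hT hNT hM hb (χ := χ)
        ⟨θ, rfl, hχθ⟩
      obtain ⟨b, ⟨θb, hθb, hb'⟩, hbe⟩ := BlockCover.exists_of_covers N {θ} T hT hNT hM hb (χ := ψ)
        ⟨θ, rfl, hψθ⟩
      rw [Set.mem_singleton_iff] at hθa hθb
      rw [hθa] at ha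
      rw [hθb] at hb'
      have hsame := BlockCover.sameBlock_of_indFun N {θ} T hT hNT hM hb ⟨θ, rfl, ha⟩
        ⟨θ, rfl, hb'⟩ hae hbe hψ
      have hcardT : Nat.card T ≤ n := by
        have h1 : Nat.card T < Nat.card G := lt_of_le_of_ne (Subgroup.card_le_card_group T)
          fun e => hTtop (Subgroup.eq_top_of_card_eq T e)
        omega
      have hbU := ih T hcardT (isPSolvable_subgroup hsolv T) UT hUTv a
        (Finset.mem_filter.2 ⟨Finset.mem_univ _, ha, χ, hχW, hae⟩) b hsame
      obtain ⟨c, hc, hce⟩ := (Finset.mem_filter.1 hbU).2.2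
      rw [show ψ = c from Subtype.ext (hbe.trans hce.symm)]
      exact (Finset.mem_filter.1 hc).1

/-- Sets with vanishing degree-weighted sums are unions of blocks. -/
theorem mem_of_sameBlock {G : Type u} [Group G] [Finite G] {p : ℕ} [Fact p.Prime] {M : Ideal AlgInt}
    (hM : IsPModular p M) (hsolv : IsPSolvable p G) (U : Set (IrrCharacter G))
    (hU : ∀ x : G, p ∣ orderOf x → ∑ᶠ χ ∈ U, (χ : G → ℂ) 1 * (χ : G → ℂ) x = 0)
    {χ : IrrCharacter G} (hχ : χ ∈ U) {ψ : IrrCharacter G}
    (hψ : SameBlock M (χ : G → ℂ) (ψ : G → ℂ)) : ψ ∈ U := by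
  classical
  haveI : Fintype G := Fintype.ofFinite G
  have hfin : U.Finite := Set.toFinite U
  have h := mem_of_sameBlock_aux hM (Nat.card G) G le_rfl hsolv hfin.toFinset (fun x hx => by
    rw [fsum, ← finsum_mem_eq_finite_toFinset_sum _ hfin]; exact hU x hx)
    χ (hfin.mem_toFinset.2 hχ) ψ hψ
  exact hfin.mem_toFinset.1 h

end CfsgLib.WeightedSum
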